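import Groth.Agent.ComodLib.Basic
import Groth.Prelude.Def_W4c3ghconstell
import Groth.Prelude.Def_W4c1tameactTame
import Mathlib.Analysis.SpecificLimits.Normed
import Mathlib.Topology.Algebra.InfiniteSum.Order
import Mathlib.Analysis.Normed.Module.FiniteDimension

/-! Isotypic parts and weights of equivariant submodules. -/

set_option autoImplicit false
set_option linter.unusedSectionVars false

open TensorProduct W4c3ghconstell
open Groth.Agent.ComodLib (slice actF slice_tmul slice_rTensor)

universe u v w w'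

namespace Groth.Agent.GHConst

variable {k : Type u} [Field k]

section Coalg

variable {A : Type v} [AddCommGroup A] [Module k A] [Coalgebra k A]

theorem isSubcoalg_inf {D E : Submodule k A} (hD : IsSubcoalg k A D) (hE : IsSubcoalg k A E) :
    IsSubcoalg k A (D ⊓ E) := by
  intro d hd
  obtain ⟨p, hp⟩ := (D ⊓ E).subtype.exists_leftInverse_of_injective (Submodule.ker_subtype _)
  let q : A →ₗ[k] A := (D ⊓ E).subtype ∘ₗ p
  have hq : ∀ a ∈ D ⊓ E, q a = a := fun a ha =>
    congrArg Subtype.val (LinearMap.congr_fun hp ⟨a, ha⟩)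
  obtain ⟨x, hx⟩ := hD d hd.1
  obtain ⟨y, hy⟩ := hE d hd.2
  let z := CoalgebraStruct.comul (R := k) d
  have hslice : ∀ (F : Submodule k A) (t : F ⊗[k] F) (φ : A →ₗ[k] k),
      slice φ (TensorProduct.map F.subtype F.subtype t) ∈ F ∧
        slice φ (TensorProduct.comm k A A (TensorProduct.map F.subtype F.subtype t)) ∈ F := by
    intro F t φ
    induction t using TensorProduct.induction_on with
    | zero => simp
    | tmul a b => simp [F.smul_mem]
    | add a b ha hb => simp only [map_add]; exact ⟨F.add_mem ha.1 hb.1, F.add_mem ha.2 hb.2⟩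
  have hL : q.rTensor A z = z := by
    obtain ⟨t, ht⟩ : z ∈ LinearMap.range ((D ⊓ E).subtype.rTensor A) :=
      (ComodLib.mem_range_rTensor_subtype_iff _ z).mpr fun φ =>
        ⟨by rw [show z = _ from hx.symm]; exact (hslice D x φ).1, by rw [show z = _ from hy.symm]; exact (hslice E y φ).1⟩
    rw [← ht, ← LinearMap.comp_apply, ← LinearMap.rTensor_comp]
    congr 2
    exact LinearMap.ext fun a => hq a a.2
  have hR : q.lTensor A z = z := by
    obtain ⟨t, ht⟩ : TensorProduct.comm k A A z ∈ LinearMap.range ((D ⊓ E).subtype.rTensor A) :=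
      (ComodLib.mem_range_rTensor_subtype_iff _ _).mpr fun φ =>
        ⟨by rw [show z = _ from hx.symm]; exact (hslice D x φ).2, by rw [show z = _ from hy.symm]; exact (hslice E y φ).2⟩
    have h2 : q.rTensor A (TensorProduct.comm k A A z) = TensorProduct.comm k A A z := by
      rw [← ht, ← LinearMap.comp_apply, ← LinearMap.rTensor_comp]
      congr 2
      exact LinearMap.ext fun a => hq a a.2
    apply (TensorProduct.comm k A A).injective
    refine Eq.trans ?_ h2
    generalize z = w
    induction w using TensorProduct.induction_on with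
    | zero => simp
    | tmul a b => simp
    | add a b ha hb => simp only [map_add, ha, hb]
  refine ⟨TensorProduct.map p p z, ?_⟩
  show TensorProduct.map (D ⊓ E).subtype (D ⊓ E).subtype (TensorProduct.map p p z) = z
  conv_rhs => rw [← hL, ← hR]
  generalize z = w
  induction w using TensorProduct.induction_on with
  | zero => simp
  | tmul a b => simp [q]
  | add a b ha hb => simp only [map_add, ha, hb]

theorem inf_eq_bot_of_ne {D E : SimpSub k A} (h : D ≠ E) : D.1 ⊓ E.1 = ⊥ := by
  rcases D.2.2.2 _ inf_le_left (isSubcoalg_inf D.2.2.1 E.2.2.1) with h1 | h1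
  · exact h1
  rcases E.2.2.2 _ inf_le_right (isSubcoalg_inf D.2.2.1 E.2.2.1) with h2 | h2
  · exact h2
  exact absurd (Subtype.ext (h1.symm.trans h2)) h

/-- A functional equal to the counit on one simple subcoalgebra and zero on another. -/
theorem exists_functional {D E : SimpSub k A} (h : D ≠ E) :
    ∃ φ : A →ₗ[k] k, (∀ d ∈ D.1, φ d = Coalgebra.counit (R := k) d) ∧ ∀ e ∈ E.1, φ e = 0 := by
  obtain ⟨C, hEC, hC⟩ : ∃ C : Submodule k A, E.1 ≤ C ∧ IsCompl D.1 C := by
    obtain ⟨C', hC'⟩ := Submodule.exists_isCompl (D.1 ⊔ E.1)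
    refine ⟨E.1 ⊔ C', le_sup_left, ⟨?_, ?_⟩⟩
    · exact Disjoint.disjoint_sup_right_of_disjoint_sup_left (disjoint_iff.mpr (inf_eq_bot_of_ne h)) hC'.disjoint
    · rw [codisjoint_iff, ← sup_assoc, hC'.sup_eq_top]
  refine ⟨(Coalgebra.counit (R := k)).comp (D.1.subtype.comp (D.1.projectionOnto C hC)), fun d hd => ?_, fun e he => ?_⟩
  · simp [Submodule.projectionOnto_apply_left hC ⟨d, hd⟩]
  · simp [Submodule.projectionOnto_apply_right hC ⟨e, hEC he⟩]

variable {M : Type w'} [AddCommGroup M] [Module k M] [HopfRep.Comod k A M]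

theorem mem_isoComp {D : Submodule k A} {m : M} :
    m ∈ isoComp M D ↔ HopfRep.Comod.coact (k := k) (A := A) m ∈ LinearMap.range (LinearMap.lTensor M D.subtype) :=
  Iff.rfl

theorem actF_isoComp_of_eq {D : Submodule k A} {φ ψ : A →ₗ[k] k} (h : ∀ d ∈ D, φ d = ψ d) {m : M}
    (hm : m ∈ isoComp M D) : actF φ m = actF ψ m := by
  obtain ⟨t, ht⟩ := mem_isoComp.mp hm
  rw [ComodLib.actF_apply, ComodLib.actF_apply, ← ht]
  clear ht
  induction t using TensorProduct.induction_on with
  | zero => simp
  | tmul a d => simp [h d d.2]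
  | add a b ha hb => simp only [map_add, ha, hb]

theorem isSubcomod_isoComp (D : SimpSub k A) : HopfRep.IsSubcomod (k := k) (A := A) (isoComp M D.1) := by
  refine ComodLib.isSubcomod_iff_actF.mpr fun φ m hm => mem_isoComp.mpr ?_
  obtain ⟨t, ht⟩ := mem_isoComp.mp hm
  have hco := LinearMap.congr_fun (HopfRep.Comod.coassoc (k := k) (A := A) (V := M)) m
  simp only [LinearMap.comp_apply, LinearEquiv.coe_coe] at hco
  rw [ComodLib.actF_apply, ← slice_rTensor]
  have h1 : (HopfRep.Comod.coact (k := k) (A := A) (V := M)).rTensor A (HopfRep.Comod.coact (k := k) (A := A) m) =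
      (TensorProduct.assoc k M A A).symm
        ((CoalgebraStruct.comul (R := k)).lTensor M (HopfRep.Comod.coact (k := k) (A := A) m)) := by
    rw [← hco, LinearEquiv.symm_apply_apply]
  rw [h1, ← ht]
  clear ht
  induction t using TensorProduct.induction_on with
  | zero => simp
  | tmul a d =>
    obtain ⟨s, hs⟩ := D.2.2.1 d d.2
    simp only [LinearMap.lTensor_tmul, Submodule.subtype_apply]
    rw [← hs]
    clear hs
    induction s using TensorProduct.induction_on with
    | zero => simp
    | tmul x y => exact ⟨φ (y : A) • (a ⊗ₜ[k] x), by simp⟩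
    | add x y hx hy => simp only [map_add, tmul_add]; exact Submodule.add_mem _ hx hy
  | add a b ha hb => simp only [map_add]; exact Submodule.add_mem _ ha hb

/-- A non-zero subcomodule of a sum of isotypic parts meets one of them. -/
theorem exists_inf_isoComp_ne_bot (hM : (⨆ D : SimpSub k A, isoComp M D.1) = ⊤) {N : Submodule k M}
    (hN : HopfRep.IsSubcomod (k := k) (A := A) N) (hN0 : N ≠ ⊥) :
    ∃ D : SimpSub k A, N ⊓ isoComp M D.1 ≠ ⊥ := by
  classical
  let P : ℕ → Prop := fun l => ∃ v ∈ N, v ≠ 0 ∧ ∃ (S : Finset (SimpSub k A)) (c : SimpSub k A → M),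
    S.card = l ∧ (∀ D ∈ S, c D ∈ isoComp M D.1) ∧ ∑ D ∈ S, c D = v
  have hP : ∃ l, P l := by
    obtain ⟨v, hv, hv0⟩ := (Submodule.ne_bot_iff N).mp hN0
    obtain ⟨f, hf, hsum⟩ := (Submodule.mem_iSup_iff_exists_finsupp _ v).mp (hM ▸ Submodule.mem_top (x := v))
    exact ⟨_, v, hv, hv0, f.support, f, rfl, fun D _ => hf D, hsum⟩
  obtain ⟨v, hv, hv0, S, c, hcard, hc, hsum⟩ := Nat.find_spec hP
  have hmin : ∀ S' : Finset (SimpSub k A), S'.card < S.card → ∀ c' : SimpSub k A → M,
      (∀ D ∈ S', c' D ∈ isoComp M D.1) → ∑ D ∈ S', c' D ∈ N → ∑ D ∈ S', c' D = 0 := by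
    intro S' hlt c' hc' hmem
    by_contra hne
    exact Nat.find_min hP (hcard ▸ hlt) ⟨_, hmem, hne, S', c', rfl, hc', rfl⟩
  rcases Nat.lt_or_ge 1 S.card with h2 | h2
  · exfalso
    obtain ⟨D, hD, E, hE, hDE⟩ := Finset.one_lt_card.mp h2
    obtain ⟨φ, hφD, hφE⟩ := exists_functional hDE
    have hD' : actF φ (c D) = c D := by
      rw [actF_isoComp_of_eq hφD (hc D hD), ComodLib.actF_counit]
    have hE' : actF φ (c E) = 0 := by
      rw [actF_isoComp_of_eq (ψ := 0) hφE (hc E hE), ComodLib.actF_zero, LinearMap.zero_apply]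
    have hw : ∑ F ∈ S.erase E, actF φ (c F) = actF φ v := by
      rw [← hsum, map_sum, ← Finset.add_sum_erase S _ hE, hE', zero_add]
    have hc1 : ∀ F ∈ S.erase E, actF φ (c F) ∈ isoComp M F.1 := fun F hF =>
      ComodLib.subcomod_actF_mem (isSubcomod_isoComp F) φ (hc F (Finset.mem_of_mem_erase hF))
    have h0 := hmin (S.erase E) (Finset.card_erase_lt_of_mem hE) _ hc1 (hw ▸ ComodLib.subcomod_actF_mem hN φ hv)
    rw [hw] at h0
    have hv' : ∑ F ∈ S.erase D, (c F - actF φ (c F)) = v := by
      have h1 : ∑ F ∈ S, (c F - actF φ (c F)) = v := by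
        rw [Finset.sum_sub_distrib, hsum, ← map_sum, hsum, h0, sub_zero]
      rwa [← Finset.add_sum_erase S _ hD, hD', sub_self, zero_add] at h1
    refine hv0 ?_
    rw [← hv']
    exact hmin (S.erase D) (Finset.card_erase_lt_of_mem hD) _
      (fun F hF => (isoComp M F.1).sub_mem (hc F (Finset.mem_of_mem_erase hF))
        (ComodLib.subcomod_actF_mem (isSubcomod_isoComp F) φ (hc F (Finset.mem_of_mem_erase hF))))
      (hv'.symm ▸ hv)
  · rcases Nat.le_one_iff_eq_zero_or_eq_one.mp h2 with h0 | h1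
    · rw [Finset.card_eq_zero] at h0
      subst h0
      exact absurd (by simpa using hsum.symm) hv0
    · obtain ⟨D, rfl⟩ := Finset.card_eq_one.mp h1
      refine ⟨D, fun h => hv0 ?_⟩
      rw [Finset.sum_singleton] at hsum
      have : v ∈ N ⊓ isoComp M D.1 := ⟨hv, hsum ▸ hc D (Finset.mem_singleton_self _)⟩
      rwa [h, Submodule.mem_bot] at this

end Coalg

section Module

variable {A : Type v} [CommRing A] [HopfAlgebra k A] {R : Type w} [CommRing R] [Algebra k R]
variable {M : Type w'} [AddCommGroup M] [Module k M] [Module R M] [IsScalarTower k R M]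
variable [HopfRep.Comod k A R] [HopfRep.Comod k A M] [TameAct.IsHopfMod k A R M]

theorem isSubcomod_span (s : Set M) (hs : ∀ φ : A →ₗ[k] k, ∀ m ∈ s, actF φ m ∈ Submodule.span R s) :
    HopfRep.IsSubcomod (k := k) (A := A) ((Submodule.span R s).restrictScalars k) := by
  intro m hm
  have hm' : m ∈ Submodule.span R s := hm
  clear hm
  induction hm' using Submodule.span_induction with
  | mem x hx => exact (ComodLib.mem_range_rTensor_subtype_iff _ _).mpr fun φ => hs φ x hx
  | zero => simp
  | add x y _ _ hx hy => rw [map_add]; exact Submodule.add_mem _ hx hy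
  | smul r x _ hx =>
    rw [TameAct.IsHopfMod.coact_smul]
    obtain ⟨t, ht⟩ := hx
    rw [← ht]
    clear ht
    generalize HopfRep.Comod.coact (k := k) (A := A) r = z
    induction z using TensorProduct.induction_on with
    | zero => simp
    | add a b ha hb => rw [map_add, LinearMap.add_apply]; exact Submodule.add_mem _ ha hb
    | tmul b a =>
      induction t using TensorProduct.induction_on with
      | zero => simp
      | add p q hp hq => rw [map_add, map_add]; exact Submodule.add_mem _ hp hq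
      | tmul p q => exact ⟨(⟨b • (p : M), Submodule.smul_mem _ b p.2⟩ : (Submodule.span R s).restrictScalars k) ⊗ₜ[k] (a * q), by simp⟩

theorem isSubcomod_genIn (S : Set (SimpSub k A)) {N : Submodule R M}
    (hN : HopfRep.IsSubcomod (k := k) (A := A) (N.restrictScalars k)) :
    HopfRep.IsSubcomod (k := k) (A := A) ((genIn k A R M S N).restrictScalars k) := by
  refine isSubcomod_span _ fun φ m hm => Submodule.subset_span ?_
  simp only [Set.mem_iUnion, SetLike.mem_coe] at hm ⊢
  obtain ⟨D, hD, h1, h2⟩ := hm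
  exact ⟨D, hD, ComodLib.subcomod_actF_mem hN φ h1, ComodLib.subcomod_actF_mem (isSubcomod_isoComp D) φ h2⟩

theorem genIn_le (S : Set (SimpSub k A)) (N : Submodule R M) : genIn k A R M S N ≤ N :=
  Submodule.span_le.mpr fun m hm => by
    simp only [Set.mem_iUnion, SetLike.mem_coe] at hm
    obtain ⟨D, -, h1, -⟩ := hm
    exact h1

theorem genIn_inf (S : Set (SimpSub k A)) (N : Submodule R M) {D : SimpSub k A} (hD : D ∈ S) :
    (genIn k A R M S N).restrictScalars k ⊓ isoComp M D.1 = N.restrictScalars k ⊓ isoComp M D.1 :=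
  le_antisymm (inf_le_inf_right _ fun _ h => genIn_le S N h) fun m hm =>
    ⟨Submodule.subset_span (Set.mem_biUnion hD hm), hm.2⟩

theorem genIn_idem (S : Set (SimpSub k A)) (N : Submodule R M) :
    genIn k A R M S (genIn k A R M S N) = genIn k A R M S N := by
  refine le_antisymm (genIn_le _ _) (Submodule.span_mono (Set.iUnion₂_mono fun D hD => ?_))
  rw [genIn_inf S N hD]

variable {h : SimpSub k A → ℕ} (hM : IsConstellation k A R M h)
include hM

theorem hilbAt_le {N N' : Submodule k M} (hle : N ≤ N') (D : SimpSub k A) : hilbAt M N D ≤ hilbAt M N' D :=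
  haveI := (hM.2.2 D).1
  haveI : Module.Finite k ↥(N' ⊓ isoComp M D.1) := Submodule.finiteDimensional_of_le inf_le_right
  Submodule.finrank_mono (inf_le_inf_right _ hle)

theorem hilbAt_top (D : SimpSub k A) : hilbAt M (⊤ : Submodule k M) D = h D := by
  rw [hilbAt, top_inf_eq]
  exact (hM.2.2 D).2

theorem hilbAt_le_h (N : Submodule k M) (D : SimpSub k A) : hilbAt M N D ≤ h D :=
  (hilbAt_le hM le_top D).trans_eq (hilbAt_top hM D)

theorem hilbAt_eq_zero {N : Submodule k M} {D : SimpSub k A} :
    hilbAt M N D = 0 ↔ N ⊓ isoComp M D.1 = ⊥ := by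
  haveI := (hM.2.2 D).1
  haveI : Module.Finite k ↥(N ⊓ isoComp M D.1) := Submodule.finiteDimensional_of_le inf_le_right
  exact Submodule.finrank_eq_zero

theorem isoComp_le_of_hilbAt_eq {N : Submodule k M} {D : SimpSub k A} (he : hilbAt M N D = h D) :
    isoComp M D.1 ≤ N := by
  haveI := (hM.2.2 D).1
  have h1 := Submodule.eq_of_le_of_finrank_eq (inf_le_right : N ⊓ isoComp M D.1 ≤ isoComp M D.1)
    (he.trans (hM.2.2 D).2.symm)
  exact h1 ▸ inf_le_left

theorem summable_theta {θ : SimpSub k A → ℚ} (hs : Summable fun D => (θ D : ℝ) * (h D : ℝ)) (N : Submodule k M) :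
    Summable fun D => (θ D : ℝ) * (hilbAt M N D : ℝ) := by
  refine Summable.of_norm_bounded (summable_norm_iff.mpr hs) fun D => ?_
  rw [norm_mul, norm_mul, Real.norm_natCast, Real.norm_natCast]
  exact mul_le_mul_of_nonneg_left (Nat.cast_le.mpr (hilbAt_le_h hM N D)) (norm_nonneg _)

theorem theta_top_eq_zero {θ : SimpSub k A → ℚ} (hsum : HasSum (fun D => (θ D : ℝ) * (h D : ℝ)) 0) :
    theta M θ (⊤ : Submodule k M) = 0 := by
  rw [theta]
  simp only [hilbAt_top hM]
  exact hsum.tsum_eq

omit hM in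
theorem theta_bot {θ : SimpSub k A → ℚ} : theta M θ (⊥ : Submodule k M) = 0 := by
  have h0 : ∀ D : SimpSub k A, hilbAt M (⊥ : Submodule k M) D = 0 := fun D => by
    unfold hilbAt
    rw [show (⊥ : Submodule k M) ⊓ isoComp M D.1 = ⊥ from bot_inf_eq _]
    exact finrank_bot k M
  simp only [theta, h0, Nat.cast_zero, mul_zero, tsum_zero]

/-- Enlarging a subspace away from the negative indices increases the weight. -/
theorem theta_le {θ : SimpSub k A → ℚ} (hs : Summable fun D => (θ D : ℝ) * (h D : ℝ)) {N N' : Submodule k M}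
    (hle : N ≤ N') (heq : ∀ D, θ D < 0 → hilbAt M N D = hilbAt M N' D) : theta M θ N ≤ theta M θ N' :=
  Summable.tsum_le_tsum (fun D => by
    rcases lt_or_ge (θ D) 0 with hD | hD
    · rw [heq D hD]
    · exact mul_le_mul_of_nonneg_left (Nat.cast_le.mpr (hilbAt_le hM hle D)) (Rat.cast_nonneg.mpr hD))
    (summable_theta hM hs N) (summable_theta hM hs N')

theorem theta_lt {θ : SimpSub k A → ℚ} (hs : Summable fun D => (θ D : ℝ) * (h D : ℝ)) {N N' : Submodule k M}
    (hle : N ≤ N') (heq : ∀ D, θ D < 0 → hilbAt M N D = hilbAt M N' D) {E : SimpSub k A}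
    (hE : hilbAt M N E < hilbAt M N' E) (hθE : θ E ≠ 0) : theta M θ N < theta M θ N' := by
  refine Summable.tsum_lt_tsum (i := E) (fun D => ?_) ?_ (summable_theta hM hs N) (summable_theta hM hs N')
  · rcases lt_or_ge (θ D) 0 with hD | hD
    · rw [heq D hD]
    · exact mul_le_mul_of_nonneg_left (Nat.cast_le.mpr (hilbAt_le hM hle D)) (Rat.cast_nonneg.mpr hD)
  · have hpos : 0 < θ E := by
      rcases hθE.lt_or_gt with h1 | h1
      · exact absurd (heq E h1) hE.ne
      · exact h1
    exact mul_lt_mul_of_pos_left (Nat.cast_lt.mpr hE) (Rat.cast_pos.mpr hpos)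

theorem eq_top_of_forall_isoComp_le {N : Submodule R M} (hN : ∀ D : SimpSub k A, isoComp M D.1 ≤ N.restrictScalars k) :
    N = ⊤ := by
  refine eq_top_iff.mpr fun m _ => ?_
  exact (iSup_le hN : (⨆ D : SimpSub k A, isoComp M D.1) ≤ _) (hM.2.1 ▸ Submodule.mem_top)

end Module

end Groth.Agent.GHConst
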